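import Groth.Agent.Lib.AffStratNum4.Tuples
import Groth.Agent.Lib.Weight4.Fibre
import Groth.Agent.Lib.ChevAff4.Main

/-!
# The maximal locus of a fibre integral is affine
-/

set_option autoImplicit false
set_option backward.isDefEq.respectTransparency.types false
universe u

open AlgebraicGeometry CategoryTheory Limits IsLocalRing Groth.Agent.Weight

namespace Groth.Agent.AffStratNum4

variable {X Y : Scheme.{u}} (f : X ⟶ Y)

/-- A closed subset of an affine scheme mapping finitely onto an open makes it affine. -/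
theorem isAffineOpen_of_closed {P : Scheme.{u}} [IsAffine P] (q : P ⟶ Y) (U : Y.Opens) [IsFinite (q ∣_ U)]
    (A : TopologicalSpace.Closeds P) (hA : q '' (A : Set P) = U) : IsAffineOpen U := by
  let z := (Scheme.IdealSheafData.vanishingIdeal A).subschemeι
  haveI : IsAffine (Scheme.IdealSheafData.vanishingIdeal A).subscheme := isAffine_of_isAffineHom z
  have hr : Set.range z = (A : Set P) := by
    rw [Scheme.IdealSheafData.range_subschemeι, Scheme.IdealSheafData.coe_support_vanishingIdeal]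
  have htop : (z ≫ q) ⁻¹ᵁ U = ⊤ := top_le_iff.1 fun x _ => hA.le ⟨z x, hr.le ⟨x, rfl⟩, rfl⟩
  haveI : IsFinite ((z ≫ q) ∣_ U) := by
    rw [morphismRestrict_comp]
    exact MorphismProperty.comp_mem _ _ _ (inferInstance : IsFinite (z ∣_ (q ⁻¹ᵁ U))) ‹IsFinite (q ∣_ U)›
  haveI : IsAffine (((z ≫ q) ⁻¹ᵁ U).toScheme) := by rw [htop]; exact isAffineOpen_top _
  haveI : Surjective ((z ≫ q) ∣_ U) := ⟨fun v => by
    obtain ⟨p, hp, hpv⟩ := hA.ge v.2
    obtain ⟨x, rfl⟩ := hr.ge hp
    refine ⟨⟨x, by rw [htop]; trivial⟩, Subtype.ext ?_⟩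
    rw [morphismRestrict_base_coe]
    exact hpv⟩
  exact ChevAff4.isAffine_of_surjective ((z ≫ q) ∣_ U)

theorem isAffineOpen_max [IsAffine X] [Y.IsSeparated] [LocallyQuasiFinite f] [LocallyOfFiniteType f] [QuasiCompact f]
    (w : X → ℤ) (hw : MoreMor.IsWeighting f w) (hpos : ∀ x, 0 < w x) (n : ℕ)
    (hmax : ∀ y : Y, MoreMor.fibreIntegral f w y ≤ (n + 1 : ℕ)) :
    ∃ hYd : IsOpen {y : Y | MoreMor.fibreIntegral f w y = (n + 1 : ℕ)},
      IsAffineOpen (⟨{y : Y | MoreMor.fibreIntegral f w y = (n + 1 : ℕ)}, hYd⟩ : Y.Opens) := by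
  classical
  haveI : IsAffineHom f := by
    haveI : IsAffineHom (f ≫ terminal.from Y) := by rw [terminal.comp_from]; infer_instance
    exact IsAffineHom.of_comp f (terminal.from Y)
  have hfin : ∀ y : Y, (f ⁻¹' {y}).Finite := fun y => f.finite_preimage_singleton y
  obtain ⟨hYd, hfU⟩ := isFinite_over_max hfin w hw hpos _ hmax
  refine ⟨hYd, ?_⟩
  obtain ⟨P, q, π, hP, hπ, hlift, hqfin⟩ := exists_tuples f n
  haveI := hP
  haveI := hqfin _ hfU
  refine isAffineOpen_of_closed q _ ⟨admissible π w, isClosed_admissible f π q hπ w hw hpos⟩ ?_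
  ext y
  constructor
  · rintro ⟨p, hp, rfl⟩
    obtain ⟨t, ht⟩ := exists_geomPt p
    refine le_antisymm (hmax _) ?_
    let Ω := AlgebraicClosure (P.residueField p)
    haveI := finite_lifts f (fun z => f.quasiFiniteAt z) (t ≫ q) (hfin _)
    letI := Fintype.ofFinite {b : Spec (CommRingCat.of Ω) ⟶ X // b ≫ f = t ≫ q}
    rw [fibreIntegral_eq f (fun z => f.quasiFiniteAt z) w (t ≫ q) (q p) (by rw [pt_comp, ht]) (hfin _),
      finsum_eq_sum_of_fintype]
    have hle : ∀ b : {b : Spec (CommRingCat.of Ω) ⟶ X // b ≫ f = t ≫ q},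
        ((Finset.univ.filter fun j => t ≫ π j = b.1).card : ℤ) ≤ w (pt b.1) := by
      intro b
      by_cases h : ∃ j, t ≫ π j = b.1
      · obtain ⟨j, hj⟩ := h
        have h1 := hp j
        rw [← ht, mult_eq_filter, ← pt_comp, hj] at h1
        exact h1
      · rw [Finset.filter_eq_empty_iff.2 fun j _ hj' => h ⟨j, hj'⟩, Finset.card_empty]
        exact (hpos _).le
    refine le_trans (le_of_eq ?_) (Finset.sum_le_sum fun b _ => hle b)
    have : (Finset.univ : Finset (Fin (n + 1))).card =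
        ∑ b : {b : Spec (CommRingCat.of Ω) ⟶ X // b ≫ f = t ≫ q}, (Finset.univ.filter fun j => t ≫ π j = b.1).card := by
      rw [Finset.card_eq_sum_card_fiberwise (f := fun j => t ≫ π j)
        (t := (Finset.univ : Finset {b : Spec (CommRingCat.of Ω) ⟶ X // b ≫ f = t ≫ q}).map (Function.Embedding.subtype _))
        (fun j _ => Finset.mem_coe.2 (Finset.mem_map.2 ⟨⟨t ≫ π j, (Category.assoc _ _ _).trans (congrArg (t ≫ ·) (hπ j))⟩, Finset.mem_univ _, rfl⟩)),
        Finset.sum_map]
      rfl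
    rw [Finset.card_univ, Fintype.card_fin] at this
    exact_mod_cast this
  · intro hy
    obtain ⟨s, hs⟩ := exists_geomPt y
    let Ω := AlgebraicClosure (Y.residueField y)
    haveI := finite_lifts f (fun z => f.quasiFiniteAt z) s (hfin _)
    letI := Fintype.ofFinite {b : Spec (CommRingCat.of Ω) ⟶ X // b ≫ f = s}
    have hsum : ∑ b : {b : Spec (CommRingCat.of Ω) ⟶ X // b ≫ f = s}, w (pt b.1) = (n + 1 : ℕ) := by
      rw [← finsum_eq_sum_of_fintype, ← fibreIntegral_eq f (fun z => f.quasiFiniteAt z) w s y hs (hfin _)]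
      exact hy
    let S := Σ b : {b : Spec (CommRingCat.of Ω) ⟶ X // b ≫ f = s}, Fin (w (pt b.1)).toNat
    have hcard : Fintype.card S = n + 1 := by
      rw [Fintype.card_sigma]
      have : ((∑ b : {b : Spec (CommRingCat.of Ω) ⟶ X // b ≫ f = s}, Fintype.card (Fin (w (pt b.1)).toNat) : ℕ) : ℤ) =
          (n + 1 : ℕ) := by
        rw [Nat.cast_sum, ← hsum]
        exact Finset.sum_congr rfl fun b _ => by rw [Fintype.card_fin, Int.toNat_of_nonneg (hpos _).le]
      exact_mod_cast this
    let e := (Fintype.equivFinOfCardEq hcard).symm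
    obtain ⟨t, ht⟩ := hlift _ s (fun j => (e j).1.1) (fun j => (e j).1.2)
    refine ⟨pt t, fun i => ?_, ?_⟩
    · rw [mult_eq_filter, ← pt_comp, ht]
      have hc : (Finset.univ.filter fun j => t ≫ π j = (e i).1.1).card = (w (pt (e i).1.1)).toNat := by
        rw [show (w (pt (e i).1.1)).toNat = Fintype.card (Fin (w (pt (e i).1.1)).toNat) from (Fintype.card_fin _).symm,
          ← Fintype.card_subtype]
        refine Fintype.card_congr ?_
        refine ((Equiv.subtypeEquivRight fun j => ?_).trans (e.subtypeEquivOfSubtype (p := fun s => s.1 = (e i).1))).trans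
          (Equiv.sigmaSubtype (e i).1)
        rw [ht]
        exact Subtype.coe_injective.eq_iff
      rw [hc, Int.toNat_of_nonneg (hpos _).le]
    · rw [← pt_comp, ← hπ 0, ← Category.assoc, ht, (e 0).1.2, hs]

end Groth.Agent.AffStratNum4
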