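import Groth.Agent.Lib.AffStratNum4.MaxLocus
import Groth.Agent.Lib.Weight4.Max
import Groth.Agent.Lib.Weight4.Basic
import Groth.Agent.Lib.AffStrat4.Noeth

/-!
# Affine stratification number and the values of the fibre integral
-/

set_option autoImplicit false
set_option backward.isDefEq.respectTransparency.types false
universe u

open AlgebraicGeometry CategoryTheory Limits IsLocalRing Groth.Agent.Weight

namespace Groth.Agent.AffStratNum4

theorem exists_pos_max {X Y : Scheme.{u}} (f : X ⟶ Y) [IsAffine X] [Y.IsSeparated] [Nonempty Y] [Surjective f]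
    [LocallyQuasiFinite f] [LocallyOfFiniteType f] [QuasiCompact f] (w : X → ℤ)
    (hw : MoreMor.IsWeighting f w) (hpos : ∀ x, 0 < w x) :
    ∃ m : ℕ, (∀ y : Y, MoreMor.fibreIntegral f w y ≤ (m + 1 : ℕ)) ∧ ∃ y : Y, MoreMor.fibreIntegral f w y = (m + 1 : ℕ) := by
  classical
  obtain ⟨y₀, hy₀⟩ := exists_max_fibreIntegral f w hw
  have hp : 0 < MoreMor.fibreIntegral f w y₀ := by
    obtain ⟨x, hx⟩ := f.surjective y₀
    obtain ⟨t, ht⟩ := exists_geomPt y₀
    let Ω := AlgebraicClosure (Y.residueField y₀)
    haveI := finite_lifts f (fun z => f.quasiFiniteAt z) t (f.finite_preimage_singleton _)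
    letI := Fintype.ofFinite {b : Spec (CommRingCat.of Ω) ⟶ X // b ≫ f = t}
    rw [fibreIntegral_eq f (fun z => f.quasiFiniteAt z) w t y₀ ht (f.finite_preimage_singleton _), finsum_eq_sum_of_fintype]
    obtain ⟨b, hb, -⟩ := exists_lift_of_eq f x (f.quasiFiniteAt x) t (hx.trans ht.symm)
    exact Finset.sum_pos (fun _ _ => hpos _) ⟨⟨b, hb⟩, Finset.mem_univ _⟩
  exact ⟨(MoreMor.fibreIntegral f w y₀).toNat - 1, fun y => (hy₀ y).trans (le_of_eq (by omega)), y₀, by omega⟩

theorem hasAffineStratification_of_values : ∀ (k : ℕ) {X Y : Scheme.{u}} (f : X ⟶ Y) [IsAffine X] [Y.IsSeparated]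
    [Surjective f] [LocallyQuasiFinite f] [LocallyOfFiniteType f] [QuasiCompact f] (w : X → ℤ)
    (_ : MoreMor.IsWeighting f w) (_ : ∀ x, 0 < w x),
    (Set.range (MoreMor.fibreIntegral f w)).Finite → (Set.range (MoreMor.fibreIntegral f w)).ncard ≤ k + 1 →
    MoreMor.HasAffineStratification Y k := by
  intro k
  induction k with
  | zero =>
    intro X Y f _ _ _ _ _ _ w hw hpos hfin hcard
    rcases isEmpty_or_nonempty Y with hY | hY
    · exact Groth.Agent.AffStrat4.hasAffineStratification_of_isEmpty Y 0
    obtain ⟨m, hmax, y₀, hy₀⟩ := exists_pos_max f w hw hpos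
    obtain ⟨hYd, haff⟩ := isAffineOpen_max f w hw hpos m hmax
    have hall : ∀ y : Y, MoreMor.fibreIntegral f w y = (m + 1 : ℕ) := fun y => by
      rw [← hy₀]
      exact (Set.ncard_le_one hfin).1 hcard _ ⟨y, rfl⟩ _ ⟨y₀, rfl⟩
    let O : Y.Opens := ⟨_, hYd⟩
    haveI : IsAffine O.toScheme := haff
    haveI : IsAffineHom O.ι := by
      haveI : IsAffineHom (O.ι ≫ terminal.from Y) := by rw [terminal.comp_from]; infer_instance
      exact IsAffineHom.of_comp O.ι (terminal.from Y)
    refine ⟨fun _ => 0, fun i => ?_, fun i => ⟨O.toScheme, O.ι, inferInstance, haff, inferInstance, ?_⟩⟩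
    · convert isClosed_univ; exact Set.eq_univ_of_forall fun _ => Fin.zero_le i
    · rw [Scheme.Opens.range_ι]
      exact Set.ext fun y => ⟨fun _ => Subsingleton.elim (α := Fin 1) _ _, fun _ => hall y⟩
  | succ k ih =>
    intro X Y f _ _ _ _ _ _ w hw hpos hfin hcard
    classical
    rcases isEmpty_or_nonempty Y with hY | hY
    · exact Groth.Agent.AffStrat4.hasAffineStratification_of_isEmpty Y _
    obtain ⟨m, hmax, y₀, hy₀⟩ := exists_pos_max f w hw hpos
    obtain ⟨hYd, haff⟩ := isAffineOpen_max f w hw hpos m hmax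
    let O : Y.Opens := ⟨_, hYd⟩
    let C : TopologicalSpace.Closeds Y := ⟨(O : Set Y)ᶜ, O.2.isClosed_compl⟩
    let j := (Scheme.IdealSheafData.vanishingIdeal C).subschemeι
    have hj : Set.range j = (O : Set Y)ᶜ := by
      rw [Scheme.IdealSheafData.range_subschemeι, Scheme.IdealSheafData.coe_support_vanishingIdeal]; rfl
    let Yc := (Scheme.IdealSheafData.vanishingIdeal C).subscheme
    let fc := pullback.snd f j
    haveI : Yc.IsSeparated := ⟨by rw [← terminal.comp_from j]; infer_instance⟩
    haveI : IsAffine (pullback f j) := isAffine_of_isAffineHom (pullback.fst f j)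
    haveI : Surjective fc := MorphismProperty.pullback_snd (P := @Surjective) f j ‹_›
    haveI : LocallyQuasiFinite fc := MorphismProperty.pullback_snd (P := @LocallyQuasiFinite) f j ‹_›
    haveI : LocallyOfFiniteType fc := MorphismProperty.pullback_snd (P := @LocallyOfFiniteType) f j ‹_›
    haveI : QuasiCompact fc := MorphismProperty.pullback_snd (P := @QuasiCompact) f j ‹_›
    have hsq := IsPullback.of_hasPullback f j
    have hint : ∀ c : Yc, MoreMor.fibreIntegral fc (w ∘ ⇑(pullback.fst f j)) c = MoreMor.fibreIntegral f w (j c) :=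
      fun c => fibreIntegral_baseChange (fun y => f.finite_preimage_singleton y) hsq w c
    have hsub : Set.range (MoreMor.fibreIntegral fc (w ∘ ⇑(pullback.fst f j))) ⊆
        Set.range (MoreMor.fibreIntegral f w) \ {((m + 1 : ℕ) : ℤ)} := by
      rintro _ ⟨c, rfl⟩
      rw [hint]
      exact ⟨⟨_, rfl⟩, fun h => (hj.le ⟨c, rfl⟩) h⟩
    have hcard' : (Set.range (MoreMor.fibreIntegral fc (w ∘ ⇑(pullback.fst f j)))).ncard ≤ k + 1 := by
      have h1 := Set.ncard_le_ncard hsub (hfin.subset Set.diff_subset)
      have h2 := Set.ncard_diff_singleton_add_one (show ((m + 1 : ℕ) : ℤ) ∈ Set.range (MoreMor.fibreIntegral f w) from ⟨y₀, hy₀⟩) hfin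
      omega
    obtain ⟨s, hs, hst⟩ := ih fc (w ∘ ⇑(pullback.fst f j)) (isWeighting_baseChange w hw hsq)
      (fun _ => hpos _) (hfin.subset (hsub.trans Set.diff_subset)) hcard'
    have hex : ∀ y : Y, y ∉ O → ∃ c : Yc, j c = y := fun y hy => hj.ge hy
    let S : Y → Fin (k + 1 + 1) := fun y => if h : y ∈ O then Fin.last _ else (s (hex y h).choose).castSucc
    have hS : ∀ c : Yc, S (j c) = (s c).castSucc := fun c => by
      have hn : j c ∉ O := hj.le ⟨c, rfl⟩
      simp only [S, dif_neg hn]
      congr 2
      exact j.isClosedEmbedding.injective (hex _ hn).choose_spec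
    have hO : ∀ y, y ∈ O ↔ S y = Fin.last _ := by
      intro y
      refine ⟨fun h => by simp only [S, dif_pos h], fun h => ?_⟩
      by_contra hn
      obtain ⟨c, rfl⟩ := hex y hn
      rw [hS] at h
      exact absurd h (Fin.castSucc_lt_last _).ne
    refine ⟨S, fun i => ?_, fun i => ?_⟩
    · induction i using Fin.lastCases with
      | last => convert isClosed_univ; exact Set.eq_univ_of_forall fun y => Fin.le_last _
      | cast i =>
        have : {y : Y | S y ≤ i.castSucc} = j '' {c | s c ≤ i} := by
          ext y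
          constructor
          · intro h
            have hn : y ∉ O := fun hy => by
              rw [Set.mem_setOf_eq, (hO y).1 hy] at h
              exact absurd h (not_le.2 (Fin.castSucc_lt_last i))
            obtain ⟨c, rfl⟩ := hex y hn
            rw [Set.mem_setOf_eq, hS, Fin.castSucc_le_castSucc_iff] at h
            exact ⟨c, h, rfl⟩
          · rintro ⟨c, hc, rfl⟩
            show S (j c) ≤ _
            rw [hS, Fin.castSucc_le_castSucc_iff]; exact hc
        rw [this]
        exact j.isClosedEmbedding.isClosedMap _ (hs i)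
    · induction i using Fin.lastCases with
      | last =>
        haveI : IsAffine O.toScheme := haff
        haveI : IsAffineHom O.ι := by
          haveI : IsAffineHom (O.ι ≫ terminal.from Y) := by rw [terminal.comp_from]; infer_instance
          exact IsAffineHom.of_comp O.ι (terminal.from Y)
        exact ⟨O.toScheme, O.ι, inferInstance, haff, inferInstance, by
          rw [Scheme.Opens.range_ι]; exact Set.ext fun y => hO y⟩
      | cast i =>
        obtain ⟨Z, ι, hι, hZ, hιa, hr⟩ := hst i
        haveI := hι; haveI := hιa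
        refine ⟨Z, ι ≫ j, inferInstance, hZ, inferInstance, ?_⟩
        rw [Scheme.Hom.comp_base, TopCat.coe_comp, Set.range_comp, hr]
        ext y
        constructor
        · rintro ⟨c, hc, rfl⟩
          show S (j c) = _
          rw [hS]; exact congrArg Fin.castSucc hc
        · intro h
          have hn : y ∉ O := fun hy => by
            rw [Set.mem_setOf_eq, (hO y).1 hy] at h
            exact absurd h.symm (Fin.castSucc_lt_last i).ne
          obtain ⟨c, rfl⟩ := hex y hn
          rw [Set.mem_setOf_eq, hS] at h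
          exact ⟨c, Fin.castSucc_injective _ h, rfl⟩

end Groth.Agent.AffStratNum4
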