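import Groth.Agent.Lib.Weight4.Fibre
import Groth.Agent.Lib.Weight4.BaseChange
import Mathlib

/-!
# Affine schemes of tuples of points of an affine scheme over a separated base
-/

set_option autoImplicit false
set_option backward.isDefEq.respectTransparency.types false
universe u

open AlgebraicGeometry CategoryTheory Limits IsLocalRing Groth.Agent.Weight

namespace Groth.Agent.AffStratNum4

variable {X Y : Scheme.{u}} (f : X ⟶ Y)

/-- A scheme of `n + 1`-tuples of `X` over `Y`. -/
theorem exists_tuples [IsAffine X] [Y.IsSeparated] (n : ℕ) :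
    ∃ (P : Scheme.{u}) (q : P ⟶ Y) (π : Fin (n + 1) → (P ⟶ X)), IsAffine P ∧ (∀ i, π i ≫ f = q) ∧
      (∀ (T : Scheme.{u}) (s : T ⟶ Y) (a : Fin (n + 1) → (T ⟶ X)), (∀ i, a i ≫ f = s) →
        ∃ t : T ⟶ P, ∀ i, t ≫ π i = a i) ∧
      ∀ U : Y.Opens, IsFinite (f ∣_ U) → IsFinite (q ∣_ U) := by
  haveI : IsAffineHom f := by
    haveI : IsAffineHom (f ≫ terminal.from Y) := by rw [terminal.comp_from]; infer_instance
    exact IsAffineHom.of_comp f (terminal.from Y)
  induction n with
  | zero =>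
    refine ⟨X, f, fun _ => 𝟙 X, ‹_›, fun i => Category.id_comp f, fun T s a ha => ⟨a 0, fun i => ?_⟩, fun U h => h⟩
    rw [Category.comp_id, Subsingleton.elim (α := Fin 1) i 0]
  | succ n ih =>
    obtain ⟨P, q, π, hP, hπ, hlift, hfin⟩ := ih
    refine ⟨pullback q f, pullback.fst q f ≫ q,
      Fin.lastCases (pullback.snd q f) (fun i => pullback.fst q f ≫ π i),
      isAffine_of_isAffineHom (pullback.fst q f), fun i => ?_, fun T s a ha => ?_, fun U hU => ?_⟩
    · induction i using Fin.lastCases with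
      | last => simp only [Fin.lastCases_last, pullback.condition]
      | cast i => simp only [Fin.lastCases_castSucc, Category.assoc, hπ]
    · obtain ⟨t, ht⟩ := hlift T s (fun i => a i.castSucc) (fun i => ha _)
      have hc : t ≫ q = a (Fin.last _) ≫ f := by rw [ha, ← hπ 0, ← Category.assoc, ht, ha]
      refine ⟨pullback.lift t (a (Fin.last _)) hc, fun i => ?_⟩
      induction i using Fin.lastCases with
      | last => simp only [Fin.lastCases_last, pullback.lift_snd]
      | cast i => simp only [Fin.lastCases_castSucc, pullback.lift_fst_assoc, ht]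
    · haveI := hfin U hU
      haveI := hU
      have hsq : IsPullback ((pullback.fst q f) ∣_ (q ⁻¹ᵁ U))
          (IsOpenImmersion.lift (f ⁻¹ᵁ U).ι ((pullback.fst q f ⁻¹ᵁ (q ⁻¹ᵁ U)).ι ≫ pullback.snd q f) (by
            rintro _ ⟨z, rfl⟩
            rw [Scheme.Opens.range_ι]
            show (pullback.snd q f ≫ f) ((pullback.fst q f ⁻¹ᵁ (q ⁻¹ᵁ U)).ι z) ∈ U
            rw [← pullback.condition]
            exact z.2))
          (q ∣_ U) (f ∣_ U) := by
        refine IsPullback.of_bot (v₂₁ := (f ⁻¹ᵁ U).ι) (v₂₂ := U.ι) (h₃₁ := f) ?_ ?_ (isPullback_morphismRestrict f U)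
        · rw [IsOpenImmersion.lift_fac, morphismRestrict_ι]
          exact (isPullback_morphismRestrict (pullback.fst q f) (q ⁻¹ᵁ U)).paste_vert (IsPullback.of_hasPullback q f)
        · rw [← cancel_mono U.ι, Category.assoc, Category.assoc, morphismRestrict_ι, morphismRestrict_ι,
            IsOpenImmersion.lift_fac_assoc, morphismRestrict_ι_assoc, Category.assoc, pullback.condition]
      haveI : IsFinite (pullback.fst q f ∣_ (q ⁻¹ᵁ U)) :=
        MorphismProperty.of_isPullback (P := @IsFinite) hsq.flip hU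
      rw [morphismRestrict_comp]
      exact MorphismProperty.comp_mem _ _ _ ‹IsFinite (pullback.fst q f ∣_ (q ⁻¹ᵁ U))› (hfin U hU)

variable {P : Scheme.{u}} {n : ℕ} (π : Fin (n + 1) → (P ⟶ X))

/-- Number of components of a tuple agreeing with the given one. -/
noncomputable def mult (p : P) (i : Fin (n + 1)) : ℕ :=
  Nat.card {j // P.fromSpecResidueField p ≫ π j = P.fromSpecResidueField p ≫ π i}

theorem comp_eq_iff {Ω : Type u} [Field Ω] (t : Spec (CommRingCat.of Ω) ⟶ P) (i j : Fin (n + 1)) :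
    t ≫ π j = t ≫ π i ↔
      P.fromSpecResidueField (pt t) ≫ π j = P.fromSpecResidueField (pt t) ≫ π i := by
  obtain ⟨e, he⟩ := exists_eq_fieldPt t (pt t) rfl
  haveI : Flat (Spec.map e) := by
    rw [HasRingHomProperty.Spec_iff (P := @Flat)]
    letI := e.hom.toAlgebra
    show RingHom.Flat e.hom
    exact (inferInstanceAs (Module.Flat (P.residueField (pt t)) Ω))
  haveI : Surjective (Spec.map e) := ⟨fun z => ⟨closedPoint _, Subsingleton.elim _ _⟩⟩
  haveI := Flat.epi_of_flat_of_surjective (Spec.map e)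
  conv_lhs => rw [← he]
  simp only [fieldPt, Category.assoc]
  exact cancel_epi (Spec.map e)

theorem mult_eq_filter {Ω : Type u} [Field Ω] [DecidableEq (Spec (CommRingCat.of Ω) ⟶ X)]
    (t : Spec (CommRingCat.of Ω) ⟶ P) (i : Fin (n + 1)) :
    mult π (pt t) i = (Finset.univ.filter fun j => t ≫ π j = t ≫ π i).card := by
  classical
  rw [mult, Nat.card_eq_fintype_card, Fintype.card_subtype]
  exact congrArg Finset.card (Finset.filter_congr fun j _ => (comp_eq_iff π t i j).symm)

/-- Tuples in which no point is repeated more often than its weight. -/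
def admissible (w : X → ℤ) : Set P := {p | ∀ i, (mult π p i : ℤ) ≤ w (π i p)}

theorem isClosed_admissible [LocallyQuasiFinite f] [LocallyOfFiniteType f] (q : P ⟶ Y) (hπ : ∀ i, π i ≫ f = q)
    (w : X → ℤ) (hw : MoreMor.IsWeighting f w) (hpos : ∀ x, 0 < w x) : IsClosed (admissible π w) := by
  classical
  rw [← isOpen_compl_iff, isOpen_iff_forall_mem_open]
  intro p hp
  simp only [admissible, Set.mem_compl_iff, Set.mem_setOf_eq, not_forall, not_le] at hp
  obtain ⟨i, hi⟩ := hp
  obtain ⟨t, ht⟩ := exists_geomPt p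
  set a := t ≫ π i with ha
  obtain ⟨U, g, ū, W, hg, hū, hfinW, huniq⟩ :=
    exists_split f (t ≫ q) (fun _ : PUnit.{1} => a) (fun _ => by rw [ha, Category.assoc, hπ])
      (fun _ => f.quasiFiniteAt _)
  haveI := hg
  haveI : IsFinite ((W ⟨⟩).ι ≫ pullback.snd f g) := hfinW _
  let H := IsPullback.of_hasPullback f g
  set G := MoreMor.fibreIntegral ((W ⟨⟩).ι ≫ pullback.snd f g) (fun z => w (pullback.fst f g ((W ⟨⟩).ι z)))
  have hG : G (pt ū) = w (π i p) := by
    simp only [G]
    rw [fibreIntegral_eq_sumOn H (W ⟨⟩) w ū _ rfl, sumOn_singleton H _ w ū a (huniq _), ha, pt_comp, ht]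
  let σ : Fin (n + 1) → (pullback q g ⟶ pullback f g) := fun j =>
    pullback.lift (pullback.fst q g ≫ π j) (pullback.snd q g) (by rw [Category.assoc, hπ, pullback.condition])
  let J := Finset.univ.filter fun j => t ≫ π j = a
  let O : Set (pullback q g : Scheme.{u}) :=
    (⋂ j ∈ J, σ j ⁻¹' (W ⟨⟩ : Set (pullback f g : Scheme.{u}))) ∩ pullback.snd q g ⁻¹' {v | G v = w (π i p)}
  have hO : IsOpen O := (isOpen_biInter_finset fun j _ => (W ⟨⟩).2.preimage (σ j).continuous).inter
    (((hw U g (W ⟨⟩) inferInstance).isOpen_fiber _).preimage (pullback.snd q g).continuous)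
  let τ : Spec (CommRingCat.of _) ⟶ pullback q g := pullback.lift t ū hū.symm
  have hτO : pt τ ∈ O := by
    refine ⟨Set.mem_iInter₂.2 fun j hj => ?_, ?_⟩
    · obtain ⟨hb, hmem⟩ := (huniq ⟨⟩ a).2 rfl
      show σ j (pt τ) ∈ W ⟨⟩
      rw [← pt_comp]
      rwa [show τ ≫ σ j = H.lift a ū hb from H.hom_ext
        (by rw [Category.assoc, pullback.lift_fst, pullback.lift_fst_assoc, H.lift_fst, (Finset.mem_filter.1 hj).2])
        (by rw [Category.assoc, pullback.lift_snd, pullback.lift_snd, H.lift_snd])]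
    · show G (pullback.snd q g (pt τ)) = _
      rw [← pt_comp, pullback.lift_snd]; exact hG
  refine ⟨pullback.fst q g '' O, ?_, isOpenMap_of_etale (pullback.fst q g) _ hO,
    ⟨pt τ, hτO, by rw [← pt_comp, pullback.lift_fst, ht]⟩⟩
  rintro _ ⟨z, ⟨hzW, hzG⟩, rfl⟩ hadm
  obtain ⟨τ', hτ'⟩ := exists_geomPt z
  set t' := τ' ≫ pullback.fst q g with ht'
  set ū' := τ' ≫ pullback.snd q g with hū'
  have hpt : pt t' = pullback.fst q g z := by rw [ht', pt_comp, hτ']
  have hin : ∀ j ∈ J, InLift H (W ⟨⟩) ū' (t' ≫ π j) := fun j hj => inLift_iff.2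
    ⟨τ' ≫ σ j, by rw [Category.assoc, pullback.lift_fst, ← Category.assoc],
      by rw [Category.assoc, pullback.lift_snd], by rw [pt_comp, hτ']; exact Set.mem_iInter₂.1 hzW j hj⟩
  haveI := finite_inLift H (W ⟨⟩) ū'
  letI := Fintype.ofFinite {b // InLift H (W ⟨⟩) ū' b}
  have hsum : ∑ b : {b // InLift H (W ⟨⟩) ū' b}, w (pt b.1) = w (π i p) := by
    rw [← finsum_eq_sum_of_fintype]
    show sumOn H (W ⟨⟩) w ū' = _
    rw [← fibreIntegral_eq_sumOn H (W ⟨⟩) w ū' _ rfl]
    show G (pt (τ' ≫ pullback.snd q g)) = _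
    rw [pt_comp, hτ']; exact hzG
  have hle : ∀ b : {b // InLift H (W ⟨⟩) ū' b},
      ((J.filter fun j => t' ≫ π j = b.1).card : ℤ) ≤ w (pt b.1) := by
    intro b
    by_cases h : ∃ j ∈ J, t' ≫ π j = b.1
    · obtain ⟨j, _, hj⟩ := h
      have h1 := hadm j
      rw [← hpt, mult_eq_filter, ← pt_comp, hj] at h1
      refine le_trans ?_ h1
      exact_mod_cast Finset.card_le_card fun k hk => Finset.mem_filter.2 ⟨Finset.mem_univ _, (Finset.mem_filter.1 hk).2⟩
    · rw [Finset.filter_eq_empty_iff.2 fun j hj hj' => h ⟨j, hj, hj'⟩, Finset.card_empty]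
      exact (hpos _).le
  have hcount : (J.card : ℤ) ≤ w (π i p) := by
    rw [← hsum]
    refine le_trans (le_of_eq ?_) (Finset.sum_le_sum fun b _ => hle b)
    have : J.card = ∑ b : {b // InLift H (W ⟨⟩) ū' b}, (J.filter fun j => t' ≫ π j = b.1).card := by
      rw [Finset.card_eq_sum_card_fiberwise (f := fun j => t' ≫ π j)
        (t := (Finset.univ : Finset {b // InLift H (W ⟨⟩) ū' b}).map (Function.Embedding.subtype _))
        (fun j hj => Finset.mem_coe.2 (Finset.mem_map.2 ⟨⟨_, hin j hj⟩, Finset.mem_univ _, rfl⟩)), Finset.sum_map]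
      rfl
    exact_mod_cast this
  rw [← ht, mult_eq_filter] at hi
  rw [show π i p = π i (pt t) by rw [ht]] at hcount
  exact absurd hi (not_lt.2 hcount)

end Groth.Agent.AffStratNum4
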